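import Mathlib

/-!
Henselianity of the localisation of the integral closure in the fixed field of a set of
automorphisms stabilising a prime.
-/

universe u

namespace Groth.Agent.DecFieldH1

open Polynomial

lemma root_lift {R K Ks : Type u} [CommRing R] [Field K] [Algebra R K]
    [Field Ks] [Algebra K Ks] [IsSepClosure K Ks] [Algebra R Ks] [IsScalarTower R K Ks]
    (Ps : Ideal (integralClosure R Ks)) [Ps.IsPrime] (S : Set (Ks ≃ₐ[K] Ks))
    (hS : ∀ σ ∈ S, ∀ x ∈ Ps, ∃ h : σ (x : Ks) ∈ integralClosure R Ks,
      (⟨σ (x : Ks), h⟩ : integralClosure R Ks) ∈ Ps)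
    (L : IntermediateField K Ks) (hL : L = IntermediateField.fixedField (Subgroup.closure S))
    (Q : Ideal (integralClosure R L))
    (hQ : ∀ y : integralClosure R L, y ∈ Q ↔ ∃ x : integralClosure R Ks, x ∈ Ps ∧ (x : Ks) = ((y : L) : Ks))
    (g : (integralClosure R L)[X]) (hg : g.Monic) (a : integralClosure R L)
    (h1 : g.eval a ∈ Q) (h2 : g.derivative.eval a ∉ Q) :
    ∃ b : integralClosure R L, g.eval b = 0 ∧ b - a ∈ Q := by
  haveI : IsSepClosed Ks := IsSepClosure.sep_closed K
  haveI : IsScalarTower R L Ks := IsScalarTower.of_algebraMap_eq (R := R) (S := L) (A := Ks) fun r => (IsScalarTower.algebraMap_apply R K Ks r).trans (by rw [IsScalarTower.algebraMap_apply R K L r]; rfl)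
  let j : integralClosure R L →+* integralClosure R Ks :=
    (((IsScalarTower.toAlgHom R L Ks).comp (integralClosure R L).val).toRingHom).codRestrict
      (integralClosure R Ks).toSubring fun y => y.2.map (IsScalarTower.toAlgHom R L Ks)
  have hj : ∀ y, (j y : Ks) = ((y : L) : Ks) := fun y => rfl
  have hQ' : ∀ y, y ∈ Q ↔ j y ∈ Ps := fun y => (hQ y).trans
    ⟨fun ⟨x, hx, e⟩ => (show x = j y from Subtype.ext e) ▸ hx, fun h => ⟨j y, h, rfl⟩⟩
  let F := AlgebraicClosure Ks
  let C := integralClosure R F
  let i : integralClosure R Ks →+* C :=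
    (((IsScalarTower.toAlgHom R Ks F).comp (integralClosure R Ks).val).toRingHom).codRestrict
      C.toSubring fun y => y.2.map (IsScalarTower.toAlgHom R Ks F)
  have hi : Function.Injective i := fun x y h =>
    Subtype.ext ((algebraMap Ks F).injective (congrArg Subtype.val h))
  letI : Algebra (integralClosure R Ks) C := i.toAlgebra
  haveI : IsScalarTower R (integralClosure R Ks) C :=
    IsScalarTower.of_algebraMap_eq (R := R) (S := integralClosure R Ks) (A := C) fun r =>
      Subtype.ext (IsScalarTower.algebraMap_apply R Ks F r)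
  haveI : Algebra.IsIntegral (integralClosure R Ks) C := ⟨fun x => (Algebra.IsIntegral.isIntegral (R := R) x).tower_top⟩
  obtain ⟨M, hM, hMc⟩ := Ideal.exists_ideal_over_prime_of_isIntegral_of_isDomain (S := C) Ps (by
    rw [(RingHom.injective_iff_ker_eq_bot (algebraMap (integralClosure R Ks) C)).1 hi]; exact bot_le)
  let c : integralClosure R L →+* C := i.comp j
  -- the roots in the algebraically closed field are integral
  let gF : F[X] := g.map (C.val.toRingHom.comp c)
  have hgF : gF.Monic := hg.map _
  have hint : ∀ r ∈ gF.roots, r ∈ C := by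
    intro r hr
    rw [mem_roots hgF.ne_zero, IsRoot, eval_map] at hr
    refine isIntegral_trans (R := R) (A := integralClosure R Ks) r ⟨g.map j, hg.map _, ?_⟩
    rw [eval₂_map]
    exact hr
  obtain ⟨r, hr, hra⟩ : ∃ (r : C) (_ : (r : F) ∈ gF.roots), c a - r ∈ M := by
    have hprod : g.map c = ((gF.roots.pmap (fun r h => (⟨r, h⟩ : C)) hint).map fun r => X - Polynomial.C r).prod := by
      refine map_injective C.val.toRingHom Subtype.coe_injective ?_
      rw [Polynomial.map_map, Polynomial.map_multiset_prod, Multiset.map_map]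
      refine ((IsAlgClosed.splits gF).eq_prod_roots_of_monic hgF).trans ?_
      rw [Multiset.map_pmap, ← Multiset.pmap_eq_map (p := fun r => r ∈ C) _ gF.roots hint]
      refine congrArg Multiset.prod (Multiset.pmap_congr _ fun r _ h1 h2 => ?_)
      simp
    have hm : c (g.eval a) ∈ M := by
      have := (hQ' _).1 h1
      rw [← hMc, Ideal.mem_comap] at this
      exact this
    rw [← eval₂_hom, eval₂_eq_eval_map, hprod, eval_multiset_prod, Multiset.map_map] at hm
    obtain ⟨z, hz, hzM⟩ := (hM.multiset_prod_mem_iff_exists_mem _).1 hm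
    simp only [Multiset.mem_map, Multiset.mem_pmap, Function.comp_apply] at hz
    obtain ⟨w, ⟨r, hr, rfl⟩, rfl⟩ := hz
    exact ⟨⟨r, hint r hr⟩, hr, by simpa using hzM⟩
  have hd : g.derivative.eval₂ c r ∉ M := by
    intro h
    apply h2
    rw [hQ', ← hMc, Ideal.mem_comap]
    show c (g.derivative.eval a) ∈ M
    have := (sub_dvd_eval_sub (c a) r (g.derivative.map c))
    rw [eval_map, eval_map, eval₂_hom] at this
    obtain ⟨t, ht⟩ := this
    rw [show c (g.derivative.eval a) = (c (g.derivative.eval a) - g.derivative.eval₂ c r) + g.derivative.eval₂ c r by ring, ht]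
    exact M.add_mem (M.mul_mem_right _ hra) h
  have hroot : gF.eval (r : F) = 0 := (mem_roots hgF.ne_zero).1 hr
  -- the root is separable over the separably closed field
  obtain ⟨x, hx⟩ : ∃ x : Ks, algebraMap Ks F x = r := by
    let gK : Ks[X] := g.map ((algebraMap L Ks).comp (integralClosure R L).val.toRingHom)
    have hgK : gK.map (algebraMap Ks F) = gF := by
      rw [Polynomial.map_map]; rfl
    have hr' : aeval (r : F) gK = 0 := by rw [aeval_def, ← eval_map, hgK]; exact hroot
    have hintK : IsIntegral Ks (r : F) := ⟨gK, hg.map _, hr'⟩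
    obtain ⟨k, hk⟩ := minpoly.dvd Ks (r : F) hr'
    have hd' : aeval (r : F) (derivative gK) ≠ 0 := by
      rw [aeval_def, ← eval_map, ← derivative_map, hgK, derivative_map, eval_map]
      intro h0
      replace h0 := (hom_eval₂ g.derivative c C.val.toRingHom r).trans h0
      exact hd (by rw [show g.derivative.eval₂ c r = 0 from Subtype.ext h0]; exact M.zero_mem)
    have hsep : (minpoly Ks (r : F)).Separable := by
      refine (separable_iff_derivative_ne_zero (minpoly.irreducible hintK)).2 fun h0 => hd' ?_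
      rw [hk, derivative_mul, h0, zero_mul, zero_add, map_mul, minpoly.aeval, zero_mul]
    exact minpoly.mem_range_of_degree_eq_one Ks (r : F)
      (IsSepClosed.degree_eq_one_of_irreducible Ks (minpoly.irreducible hintK) hsep)
  have hxint : IsIntegral R x := (isIntegral_algHom_iff (IsScalarTower.toAlgHom R Ks F) (algebraMap Ks F).injective).1 (by
    show IsIntegral R (algebraMap Ks F x); rw [hx]; exact r.2)
  let xB : integralClosure R Ks := ⟨x, hxint⟩
  have hir : i xB = r := Subtype.ext hx
  have hxg : g.eval₂ j xB = 0 := by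
    refine hi ?_
    rw [hom_eval₂, hir, map_zero]
    refine Subtype.ext ?_
    have h := hom_eval₂ g c C.val.toRingHom r
    rw [eval_map] at hroot
    exact h.trans hroot
  have hxa : xB - j a ∈ Ps := by
    rw [← hMc, Ideal.mem_comap]
    show i (xB - j a) ∈ M
    rw [map_sub, hir, show r - i (j a) = -(c a - r) by simp [c]]
    exact M.neg_mem hra
  have hxd : g.derivative.eval₂ j xB ∉ Ps := by
    intro h
    apply hd
    rw [← hMc, Ideal.mem_comap] at h
    rw [← hir, ← hom_eval₂]
    exact h
  -- it is fixed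
  have hfixL : ∀ σ ∈ S, ∀ y : L, σ (y : Ks) = y := by
    intro σ hσ y
    have hy : (y : Ks) ∈ IntermediateField.fixedField (Subgroup.closure S) := hL ▸ y.2
    exact hy ⟨σ, Subgroup.subset_closure hσ⟩
  have hσx : ∀ σ ∈ S, σ x = x := by
    intro σ hσ
    have hσi : IsIntegral R (σ x) := hxint.map (σ.toAlgHom.restrictScalars R)
    let yB : integralClosure R Ks := ⟨σ x, hσi⟩
    have hyg : g.eval₂ j yB = 0 := by
      refine Subtype.ext ?_
      have h1 := hom_eval₂ g j (integralClosure R Ks).val.toRingHom yB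
      have h2 := hom_eval₂ g j (integralClosure R Ks).val.toRingHom xB
      rw [hxg, map_zero] at h2
      have h3 := hom_eval₂ g ((integralClosure R Ks).val.toRingHom.comp j) σ.toAlgHom.toRingHom x
      have e : σ.toAlgHom.toRingHom.comp ((integralClosure R Ks).val.toRingHom.comp j) =
          (integralClosure R Ks).val.toRingHom.comp j := RingHom.ext fun y => hfixL σ hσ y.1
      rw [e] at h3
      refine (h1.trans h3.symm).trans ?_
      exact (congrArg σ.toAlgHom.toRingHom h2.symm).trans (map_zero σ.toAlgHom.toRingHom)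
    have hya : yB - j a ∈ Ps := by
      obtain ⟨h, hmem⟩ := hS σ hσ _ hxa
      convert hmem using 1
      refine Subtype.ext ?_
      show σ x - (j a : Ks) = σ (x - (j a : Ks))
      rw [map_sub, hj, hfixL σ hσ]
    obtain ⟨k, hk⟩ := binomExpansion (g.map j) xB (yB - xB)
    rw [add_sub_cancel, eval_map, eval_map, derivative_map, eval_map, hxg, hyg, zero_add] at hk
    have hk' : (g.derivative.eval₂ j xB + k * (yB - xB)) * (yB - xB) = 0 := by
      rw [hk]; ring
    rcases mul_eq_zero.1 hk' with h | h
    · refine absurd ?_ hxd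
      rw [eq_neg_of_add_eq_zero_left h]
      refine Ps.neg_mem (Ps.mul_mem_left _ ?_)
      simpa using Ps.sub_mem hya hxa
    · exact congrArg Subtype.val (sub_eq_zero.1 h)
  have hxL : x ∈ L := by
    rw [hL]
    rintro ⟨σ, hσ⟩
    exact (Subgroup.closure_le (MulAction.stabilizer (Ks ≃ₐ[K] Ks) x)).2 hσx hσ
  let b : integralClosure R L := ⟨⟨x, hxL⟩, (isIntegral_algHom_iff (IsScalarTower.toAlgHom R L Ks) Subtype.coe_injective).1 hxint⟩
  have hjb : j b = xB := rfl
  refine ⟨b, ?_, (hQ' _).2 (by rw [map_sub, hjb]; exact hxa)⟩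
  have : j (g.eval b) = 0 := by rw [← eval₂_hom, hjb, hxg]
  exact Subtype.ext (Subtype.ext (congrArg (fun z : integralClosure R Ks => (z : Ks)) this))

/-- root lifting in a ring gives henselianity of its localisation -/
lemma henselianLocalRing_of_root_lift {A : Type u} [CommRing A] (Q : Ideal A) [Q.IsPrime]
    (H : ∀ (g : A[X]), g.Monic → ∀ a, g.eval a ∈ Q → g.derivative.eval a ∉ Q → ∃ b, g.eval b = 0 ∧ b - a ∈ Q) :
    HenselianLocalRing (Localization.AtPrime Q) := by
  refine { (inferInstance : IsLocalRing (Localization.AtPrime Q)) with is_henselian := fun f hf a₀ h1 h2 => ?_ }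
  classical
  let φ := algebraMap A (Localization.AtPrime Q)
  obtain ⟨⟨t, ht⟩, hts⟩ := IsLocalization.exist_integer_multiples_of_finset Q.primeCompl
    (insert a₀ ((Finset.range (f.natDegree + 1)).image f.coeff))
  have hT : IsUnit (φ t) := IsLocalization.map_units _ ⟨t, ht⟩
  obtain ⟨a, ha⟩ := hts a₀ (Finset.mem_insert_self _ _)
  have hlift : f.scaleRoots (φ t) ∈ lifts φ := by
    rw [lifts_iff_coeff_lifts]
    intro i
    rw [coeff_scaleRoots]
    rcases lt_trichotomy i f.natDegree with h | h | h
    · obtain ⟨z, hz⟩ := hts (f.coeff i) (Finset.mem_insert_of_mem (Finset.mem_image_of_mem _ (by simp; omega)))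
      refine ⟨z * t ^ (f.natDegree - i - 1), ?_⟩
      rw [map_mul, map_pow, hz, show f.natDegree - i = (f.natDegree - i - 1) + 1 by omega, pow_succ,
        Nat.add_sub_cancel]
      show (t • f.coeff i) * φ t ^ (f.natDegree - i - 1) = _
      rw [Algebra.smul_def]
      ring
    · exact ⟨1, by rw [h, hf.coeff_natDegree, Nat.sub_self, pow_zero, one_mul, map_one]⟩
    · exact ⟨0, by rw [coeff_eq_zero_of_natDegree_lt h, zero_mul, map_zero]⟩
  obtain ⟨g, hg, -, hgm⟩ := lifts_and_natDegree_eq_and_monic hlift ((monic_scaleRoots_iff _).2 hf)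
  have ha' : φ a = φ t * a₀ := ha.trans (Algebra.smul_def _ _)
  have hev : ∀ z : A, φ (g.eval z) = (f.scaleRoots (φ t)).eval (φ z) := fun z => by
    rw [← hg, eval_map, eval₂_hom]
  have hmem : ∀ z : A, φ z ∈ IsLocalRing.maximalIdeal (Localization.AtPrime Q) ↔ z ∈ Q := fun z =>
    IsLocalization.AtPrime.to_map_mem_maximal_iff _ Q z
  have hd : φ (g.derivative.eval a) * φ t = φ t ^ f.natDegree * f.derivative.eval a₀ := by
    have hcomp : (f.scaleRoots (φ t)).comp (Polynomial.C (φ t) * X) = Polynomial.C (φ t ^ f.natDegree) * f := by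
      rw [comp, scaleRoots_eval₂_mul, eval₂_C_X, map_pow]
    have := congrArg (fun p => eval a₀ (derivative p)) hcomp
    simp only [derivative_comp, derivative_C_mul, derivative_mul, derivative_C, derivative_X,
      eval_mul, eval_comp, eval_C, eval_X, eval_add, zero_mul, mul_one, zero_add] at this
    rw [← hg, derivative_map] at this
    rw [← ha', eval_map, eval₂_hom] at this
    rw [mul_comm]
    exact this
  obtain ⟨b, hb, hba⟩ := H g hgm a ((hmem _).1 (by
      rw [hev, ha', scaleRoots_eval_mul]; exact Ideal.mul_mem_left _ _ h1)) (fun hmq => by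
      have h3 := (IsLocalRing.mem_maximalIdeal _).1 ((hmem _).2 hmq)
      exact h3 (isUnit_of_mul_isUnit_left (hd ▸ (hT.pow _).mul h2)))
  obtain ⟨s, hs⟩ := hT.exists_right_inv
  refine ⟨φ b * s, ?_, ?_⟩
  · have h := hev b
    rw [hb, map_zero, show φ b = φ t * (φ b * s) by rw [mul_left_comm, hs, mul_one], scaleRoots_eval_mul] at h
    exact (hT.pow _).mul_right_eq_zero.1 h.symm
  · rw [show φ b * s - a₀ = s * (φ (b - a)) by rw [map_sub, ha', mul_sub, ← mul_assoc, mul_comm s (φ t), hs, one_mul, mul_comm]]
    exact Ideal.mul_mem_left _ _ ((hmem _).2 hba)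

end Groth.Agent.DecFieldH1
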